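import Groth.Agent.Lib.GmAV19.Basic
import Groth.Agent.Lib.MTRigid29.TrivGlobal
import Groth.Agent.Lib.MTRigid29.CentralizerNormalizer
import Groth.Agent.Lib.TorPts21.Split
import Groth.Agent.Lib.TorPts21.BaseChangeTorus
import Groth.Agent.Lib.TorPts21.Cartan
import Groth.Agent.Lib.TorsorSch25.ExactPts
import Groth.Prelude.Def_GmPts

/-!
# Homomorphisms from tori to proper groups are trivial
-/

set_option autoImplicit false
set_option linter.style.haveILetI false
set_option backward.isDefEq.respectTransparency.types false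

universe u

open CategoryTheory Limits MonoidalCategory CartesianMonoidalCategory MonObj AlgebraicGeometry

namespace Groth.Agent.TorusHom19

open DiagGL

/-- A homomorphism from a split torus killing all cocharacters is trivial. -/
theorem eq_one_of_cochar {S : Scheme.{u}} {T G : Over S} [GrpObj T] [GrpObj G] {r : ℕ} (C : Chars (Fin r → ℤ) T)
    (f : T ⟶ G) [IsMonHom f] (h : ∀ g : Red.Gm S ⟶ T, IsMonHom g → g ≫ f = 1) : f = 1 := by
  classical
  -- points with prescribed coordinates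
  have hex : ∀ (X : Over S) (c : Fin r → (Γ(X.left, ⊤))ˣ), ∃ x : X ⟶ T, ∀ a : Fin r → ℤ,
      C.ch x (Multiplicative.ofAdd a) = ((∏ i, c i ^ a i : (Γ(X.left, ⊤))ˣ) : Γ(X.left, ⊤)) := by
    intro X c
    obtain ⟨x, hx⟩ := C.surj (T := X) ((Units.coeHom _).comp (MonoidHom.mk'
      (fun a : Multiplicative (Fin r → ℤ) => ∏ i, c i ^ a.toAdd i) fun a b => by
        simp only [toAdd_mul, Pi.add_apply, zpow_add, Finset.prod_mul_distrib]))
    exact ⟨x, fun a => by rw [hx]; rfl⟩
  choose θ hθ using hex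
  have hsingle : ∀ (X : Over S) (j : Fin r) (v : (Γ(X.left, ⊤))ˣ) (a : Fin r → ℤ),
      ∏ i, (Pi.mulSingle j v : Fin r → (Γ(X.left, ⊤))ˣ) i ^ a i = v ^ a j := fun X j v a => by
    rw [Finset.prod_eq_single j (fun i _ hi => by rw [Pi.mulSingle_eq_of_ne hi, one_zpow])
      (fun hj => absurd (Finset.mem_univ j) hj), Pi.mulSingle_eq_same]
  have hθu : ∀ (X : Over S) (c : Fin r → (Γ(X.left, ⊤))ˣ) (x : X ⟶ T),
      (∀ a : Fin r → ℤ, C.ch x (Multiplicative.ofAdd a) = ((∏ i, c i ^ a i : (Γ(X.left, ⊤))ˣ) : Γ(X.left, ⊤))) →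
      x = θ X c := fun X c x hx => C.inj fun a => (hx a.toAdd).trans (hθ X c a.toAdd).symm
  have hmul : ∀ (X : Over S) (c d : Fin r → (Γ(X.left, ⊤))ˣ), θ X (c * d) = θ X c * θ X d := by
    intro X c d
    refine (hθu X _ _ fun a => ?_).symm
    rw [C.mul, hθ, hθ, ← Units.val_mul, ← Finset.prod_mul_distrib]
    simp only [Pi.mul_apply, mul_zpow]
  let Θ : (Fin r → (Γ(T.left, ⊤))ˣ) →* (T ⟶ G) :=
    MonoidHom.mk' (fun c => θ T c ≫ f) fun c d => by rw [hmul, MonObj.mul_comp]
  have hker : ∀ c, Θ c = 1 := by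
    intro c
    refine (MonoidHom.mem_ker (f := Θ)).1 (Subgroup.pi_mem_of_mulSingle_mem c fun j => ?_)
    rw [MonoidHom.mem_ker]
    let uid : (Γ((Red.Gm S).left, ⊤))ˣ := GmPts.unitOfPt (𝟙 (Red.Gm S))
    let g : Red.Gm S ⟶ T := θ _ (Pi.mulSingle j uid)
    have hpt : ∀ (X : Over S) (t : X ⟶ Red.Gm S), t ≫ g = θ X (Pi.mulSingle j (GmPts.unitOfPt t)) := by
      intro X t
      refine hθu X _ _ fun a => ?_
      rw [C.nat, hθ, hsingle, hsingle]
      have e : GmPts.unitOfPt t = Units.map t.left.appTop.hom.toMonoidHom uid := by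
        refine Units.ext ?_
        show Red.gmFn t = t.left.appTop (Red.gmFn (𝟙 (Red.Gm S)))
        rw [← GmPts.gmFn_comp, Category.comp_id]
      rw [e, ← map_zpow]
      rfl
    haveI hg : IsMonHom g := by
      refine TorsorSch25.isMonHom_of_points g fun X x y => ?_
      rw [hpt, hpt, hpt, GmPts.unitOfPt_mul, Pi.mulSingle_mul, hmul]
    show θ T (Pi.mulSingle j (c j)) ≫ f = 1
    rw [← GmPts.unitOfPt_ptOfUnit (S := S) (c j), ← hpt, Category.assoc, h g hg, MonObj.comp_one]
  let e : Fin r → (Γ(T.left, ⊤))ˣ := fun i => (C.ch (𝟙 T)).toHomUnits (Multiplicative.ofAdd (Pi.single i 1))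
  have hid : 𝟙 T = θ T e := by
    refine hθu T e _ fun a => ?_
    rw [← (C.ch (𝟙 T)).coe_toHomUnits, Units.val_inj]
    have ha : Multiplicative.ofAdd a = ∏ i, Multiplicative.ofAdd (Pi.single i (1 : ℤ) : Fin r → ℤ) ^ a i := by
      refine Multiplicative.toAdd.injective (funext fun i => ?_)
      simp [Finset.sum_apply, Pi.single_apply]
    conv_lhs => rw [ha]
    simp only [map_prod, map_zpow, e]
  have := hker e
  rw [← Category.id_comp f, hid]
  exact this

/-- Tori stay tori under base change. -/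
theorem isTorus_bc {S S₁ : Scheme.{u}} {T : Over S} [GrpObj T] (hT : Red.IsTorus T) (q : S₁ ⟶ S) :
    Red.IsTorus (Red.bc q T) := by
  obtain ⟨S', f, hflat, hsurj, hcov, hloc⟩ := hT
  refine ⟨pullback q f, pullback.fst q f, MorphismProperty.pullback_fst _ _ hflat,
    MorphismProperty.pullback_fst _ _ hsurj, MTRigid29.cover_pullback f q hcov, fun t => ?_⟩
  obtain ⟨U, hU, r, ⟨e⟩⟩ := hloc (pullback.snd q f t)
  let V : (pullback q f).Opens := pullback.snd q f ⁻¹ᵁ U
  let b : (V : Scheme.{u}) ⟶ (U : Scheme.{u}) := pullback.snd q f ∣_ U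
  have w : (V.ι ≫ pullback.fst q f) ≫ q = b ≫ (U.ι ≫ f) := by
    rw [Category.assoc, pullback.condition, ← Category.assoc b, morphismRestrict_ι, Category.assoc]
  exact ⟨V, hU, r,
    MTRigid29.nonempty_grpIso_of_chars (MTRigid29.charsFactor w T ((charsDS (U : Scheme.{u}) (Fin r → ℤ)).transport e))
      (charsDS _ (Fin r → ℤ))⟩

/-- A homomorphism from a torus to a proper group is trivial. -/
theorem eq_one_of_isProper {S : Scheme.{u}} {T A : Over S} [GrpObj T] [GrpObj A] (hT : Red.IsTorus T)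
    [IsProper A.hom] (f : T ⟶ A) [IsMonHom f] : f = 1 := by
  obtain ⟨U, -, hmem, htriv⟩ :=
    MTRigid29.exists_triv_locus f (TorPts21.isMultTypeFT_of_isTorus hT) (Or.inr inferInstance)
  have hpt : ∀ s : S, s ∈ U := by
    intro s
    rw [hmem]
    let K := AlgebraicClosure (S.residueField s)
    let φ : Spec (CommRingCat.of K) ⟶ Spec (S.residueField s) :=
      Spec.map (CommRingCat.ofHom (algebraMap (S.residueField s) K))
    let ρ := S.fromSpecResidueField s
    haveI : Flat φ := by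
      refine (HasRingHomProperty.Spec_iff (P := @Flat)).2 ?_
      exact RingHom.flat_algebraMap_iff.2 inferInstance
    haveI : Surjective φ := ⟨fun x => ⟨IsLocalRing.closedPoint K, Subsingleton.elim (α := PrimeSpectrum (S.residueField s)) _ _⟩⟩
    haveI : QuasiCompact φ := inferInstance
    refine MTRigid29.triv_of_flat_cover f φ ((MTRigid29.triv_iff_pullback_map f (φ ≫ ρ)).2 ?_)
    obtain ⟨r, ⟨C⟩⟩ := TorPts21.exists_chars (isTorus_bc hT (φ ≫ ρ))
    haveI : IsMonHom ((Over.pullback (φ ≫ ρ)).map f) := inferInstance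
    haveI : IsProper (Red.bc (φ ≫ ρ) A).hom := inferInstanceAs (IsProper (pullback.snd A.hom (φ ≫ ρ)))
    exact eq_one_of_cochar C _ fun g hg => GmAV19.eq_one_of_proper _ _
  let x : (Over.map U.ι).obj (Over.mk (IsOpenImmersion.lift U.ι T.hom (by rintro _ ⟨t, rfl⟩; simpa using hpt _))) ⟶ T :=
    Over.homMk (𝟙 _) (by simp)
  haveI : IsIso x.left := inferInstanceAs (IsIso (𝟙 _))
  haveI : Epi x := Over.epi_of_epi_left _
  rw [← cancel_epi x, MonObj.comp_one]
  exact htriv _ x

end Groth.Agent.TorusHom19
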